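import Groth.Agent.S11080
import Mathlib.FieldTheory.RatFunc.Valuation
import Mathlib.RingTheory.Valuation.ValuationSubring

/-!
# Valuation subrings of `k(X)` containing `k`
-/

set_option autoImplicit false
universe u

namespace Groth.Agent.Lib.Helper24.RatVal

open Polynomial

variable {k : Type u} [Field k]

section generic

variable {Γ : Type*} [LinearOrderedCommGroupWithZero Γ] (v : Valuation (RatFunc k) Γ)

theorem val_poly_le (hc : ∀ c : k, v (RatFunc.C c) ≤ 1) (hX : 1 < v RatFunc.X) (q : k[X])
    (m : ℕ) (hq : q.natDegree ≤ m) :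
    v (algebraMap k[X] (RatFunc k) q) ≤ v RatFunc.X ^ m := by
  conv_lhs => rw [q.as_sum_range, map_sum]
  apply Valuation.map_sum_le
  intro i hi
  rw [Finset.mem_range] at hi
  rw [← Polynomial.C_mul_X_pow_eq_monomial, map_mul, map_pow, RatFunc.algebraMap_C,
    RatFunc.algebraMap_X, map_mul, map_pow]
  calc v (RatFunc.C (q.coeff i)) * v RatFunc.X ^ i ≤ 1 * v RatFunc.X ^ i :=
        mul_le_mul' (hc _) le_rfl
    _ = v RatFunc.X ^ i := one_mul _
    _ ≤ v RatFunc.X ^ m := pow_le_pow_right₀ hX.le (by omega)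

theorem val_poly (hc : ∀ c : k, c ≠ 0 → v (RatFunc.C c) = 1) (hX : 1 < v RatFunc.X) (p : k[X])
    (hp : p ≠ 0) :
    v (algebraMap k[X] (RatFunc k) p) = v RatFunc.X ^ p.natDegree := by
  have hc' : ∀ c : k, v (RatFunc.C c) ≤ 1 := by
    intro c
    by_cases h : c = 0
    · rw [h, map_zero, map_zero]; exact zero_le_one
    · exact (hc c h).le
  have hlc : p.leadingCoeff ≠ 0 := Polynomial.leadingCoeff_ne_zero.mpr hp
  have h1 : v (algebraMap k[X] (RatFunc k) (C p.leadingCoeff * X ^ p.natDegree)) =
      v RatFunc.X ^ p.natDegree := by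
    rw [map_mul, map_pow, RatFunc.algebraMap_C, RatFunc.algebraMap_X, map_mul, map_pow,
      hc _ hlc, one_mul]
  rcases Nat.eq_zero_or_pos p.natDegree with h0 | hpos
  · have h2 : p = C p.leadingCoeff := by
      conv_lhs => rw [Polynomial.eq_C_of_natDegree_eq_zero h0]
      rw [Polynomial.leadingCoeff, h0]
    rw [h0, pow_zero]
    conv_lhs => rw [h2]
    rw [RatFunc.algebraMap_C, hc _ hlc]
  · have h2 : p = C p.leadingCoeff * X ^ p.natDegree + p.eraseLead := by
      rw [add_comm]; exact (Polynomial.eraseLead_add_C_mul_X_pow p).symm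
    have h3 : v (algebraMap k[X] (RatFunc k) p.eraseLead) ≤ v RatFunc.X ^ (p.natDegree - 1) :=
      val_poly_le v hc' hX _ _ (Polynomial.eraseLead_natDegree_le p)
    have h4 : v RatFunc.X ^ (p.natDegree - 1) < v RatFunc.X ^ p.natDegree :=
      pow_lt_pow_right₀ hX (by omega)
    conv_lhs => rw [h2, map_add]
    rw [Valuation.map_add_eq_of_lt_left, h1]
    rw [h1]
    exact lt_of_le_of_lt h3 h4

theorem val_le_one_iff (hc : ∀ c : k, c ≠ 0 → v (RatFunc.C c) = 1) (hX : 1 < v RatFunc.X)
    (x : RatFunc k) (hx : x ≠ 0) : v x ≤ 1 ↔ x.intDegree ≤ 0 := by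
  have hnum : x.num ≠ 0 := RatFunc.num_ne_zero hx
  have hden : x.denom ≠ 0 := RatFunc.denom_ne_zero x
  have hpos : 0 < v RatFunc.X := lt_trans zero_lt_one hX
  conv_lhs => rw [← RatFunc.num_div_denom x, map_div₀, val_poly v hc hX _ hnum,
    val_poly v hc hX _ hden]
  rw [div_le_one₀ (pow_pos hpos _), pow_le_pow_iff_right₀ hX, RatFunc.intDegree]
  omega

end generic

theorem val_C_eq_one (O : ValuationSubring (RatFunc k))
    (hk : (algebraMap k (RatFunc k)).range ≤ O.toSubring) (c : k) (hc : c ≠ 0) :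
    O.valuation (RatFunc.C c) = 1 := by
  have h1 : O.valuation (RatFunc.C c) ≤ 1 := by
    rw [ValuationSubring.valuation_le_one_iff]
    exact hk ⟨c, by rw [RatFunc.algebraMap_eq_C]⟩
  have h2 : O.valuation (RatFunc.C c⁻¹) ≤ 1 := by
    rw [ValuationSubring.valuation_le_one_iff]
    exact hk ⟨c⁻¹, by rw [RatFunc.algebraMap_eq_C]⟩
  have h3 : O.valuation (RatFunc.C c) * O.valuation (RatFunc.C c⁻¹) = 1 := by
    rw [← map_mul, ← map_mul, mul_inv_cancel₀ hc, map_one, map_one]
  apply le_antisymm h1
  calc (1 : O.ValueGroup) = O.valuation (RatFunc.C c) * O.valuation (RatFunc.C c⁻¹) := h3.symm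
    _ ≤ O.valuation (RatFunc.C c) * 1 := mul_le_mul' le_rfl h2
    _ = _ := mul_one _

theorem poly_mem (O : ValuationSubring (RatFunc k))
    (hk : (algebraMap k (RatFunc k)).range ≤ O.toSubring) (hX : RatFunc.X ∈ O) (p : k[X]) :
    algebraMap k[X] (RatFunc k) p ∈ O := by
  induction p using Polynomial.induction_on' with
  | add p q hp hq => rw [map_add]; exact O.add_mem _ _ hp hq
  | monomial n a =>
    rw [← Polynomial.C_mul_X_pow_eq_monomial, map_mul, map_pow, RatFunc.algebraMap_C,
      RatFunc.algebraMap_X]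
    refine O.mul_mem _ _ ?_ (O.pow_mem hX n)
    exact hk ⟨a, by rw [RatFunc.algebraMap_eq_C]⟩

variable [DecidableEq (RatFunc k)]

theorem main (O : ValuationSubring (RatFunc k)) :
    ((algebraMap k (RatFunc k)).range ≤ O.toSubring ∧ O ≠ ⊤) ↔
      ((∃ v : IsDedekindDomain.HeightOneSpectrum (Polynomial k),
          O = (v.valuation (RatFunc k)).valuationSubring) ∨
        O = (RatFunc.inftyValuation k).valuationSubring) := by
  constructor
  · rintro ⟨hk, hO⟩
    by_cases hX : RatFunc.X ∈ O
    · left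
      apply (Groth.Agent.S11080.result k[X] (RatFunc k) O).1
      refine ⟨?_, hO⟩
      rintro _ ⟨p, rfl⟩
      exact poly_mem O hk hX p
    · right
      have hX' : 1 < O.valuation RatFunc.X := by
        rw [← not_le, ValuationSubring.valuation_le_one_iff]
        exact hX
      ext x
      rw [Valuation.mem_valuationSubring_iff, ← ValuationSubring.valuation_le_one_iff]
      by_cases hx : x = 0
      · rw [hx, map_zero, map_zero]
        simp
      · rw [val_le_one_iff O.valuation (val_C_eq_one O hk) hX' x hx, RatFunc.inftyValuation_apply,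
          RatFunc.inftyValuation_of_nonzero k hx, ← WithZero.exp_zero, WithZero.exp_le_exp]
  · rintro (⟨v, rfl⟩ | rfl)
    · have h := (Groth.Agent.S11080.result k[X] (RatFunc k)
        (v.valuation (RatFunc k)).valuationSubring).2 ⟨v, rfl⟩
      refine ⟨?_, h.2⟩
      rintro _ ⟨c, rfl⟩
      apply h.1
      exact ⟨C c, by rw [RatFunc.algebraMap_C, RatFunc.algebraMap_eq_C]⟩
    · constructor
      · rintro _ ⟨c, rfl⟩
        show _ ∈ (RatFunc.inftyValuation k).valuationSubring
        rw [Valuation.mem_valuationSubring_iff, RatFunc.algebraMap_eq_C]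
        by_cases hc : c = 0
        · rw [hc, map_zero, map_zero]; exact zero_le_one
        · rw [RatFunc.inftyValuation.C k hc]
      · intro htop
        have h1 : RatFunc.X ∈ (RatFunc.inftyValuation k).valuationSubring := by
          rw [htop]; trivial
        rw [Valuation.mem_valuationSubring_iff, RatFunc.inftyValuation.X, ← WithZero.exp_zero,
          WithZero.exp_le_exp] at h1
        omega

end Groth.Agent.Lib.Helper24.RatVal
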